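import Mathlib.RingTheory.Spectrum.Prime.Homeomorph
import Mathlib.RingTheory.Spectrum.Prime.Chevalley
import Mathlib.RingTheory.LocalRing.ResidueField.Fiber
import Mathlib.FieldTheory.PurelyInseparable.Basic
import Mathlib.FieldTheory.IsAlgClosed.AlgebraicClosure
import Groth.Agent.GeomConn.Basic

/-!
Irreducibility and connectedness of `Spec (R ⊗[k] S)` over separably closed fields, in ring terms.
-/

universe u

open TensorProduct PrimeSpectrum

namespace Groth.Agent.SepTensor

section alg

variable {k : Type u} [Field k] {A B : Type u} [CommRing A] [CommRing B] [Algebra k A] [Algebra k B]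

theorem fibre_homeo (p : PrimeSpectrum A) :
    Nonempty (comap (algebraMap A (A ⊗[k] B)) ⁻¹' {p} ≃ₜ
      PrimeSpectrum (p.asIdeal.ResidueField ⊗[k] B)) :=
  ⟨(preimageHomeomorphFiber A (A ⊗[k] B) p).trans
    (homeomorphOfRingEquiv
      (Algebra.TensorProduct.cancelBaseChange k A A p.asIdeal.ResidueField B).toRingEquiv)⟩

theorem irreducible_of_fibres [IrreducibleSpace (PrimeSpectrum A)]
    (h : ∀ (K : Type u) [Field K] [Algebra k K], IrreducibleSpace (PrimeSpectrum (K ⊗[k] B))) :
    IrreducibleSpace (PrimeSpectrum (A ⊗[k] B)) := by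
  let f := comap (algebraMap A (A ⊗[k] B))
  have hfib : ∀ p, IsIrreducible (f ⁻¹' {p}) := fun p => by
    obtain ⟨e⟩ := fibre_homeo (B := B) (k := k) p
    haveI := h p.asIdeal.ResidueField
    haveI : IrreducibleSpace (f ⁻¹' {p}) := e.symm.surjective.irreducibleSpace e.symm.continuous
    exact isIrreducible_iff_irreducibleSpace.2 inferInstance
  have hopen : IsOpenMap f := isOpenMap_comap_algebraMap_tensorProduct_of_field
  rw [irreducibleSpace_def, Set.top_eq_univ, ← Set.preimage_univ (f := f)]
  refine (IrreducibleSpace.isIrreducible_univ _).preimage_of_isPreirreducible_fiber f hopen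
    (fun p => (hfib p).2) ?_
  obtain ⟨p⟩ := (inferInstance : Nonempty (PrimeSpectrum A))
  obtain ⟨q, hq⟩ := (hfib p).1
  exact ⟨f q, trivial, q, rfl⟩

theorem connected_of_fibres [ConnectedSpace (PrimeSpectrum A)]
    (h : ∀ (K : Type u) [Field K] [Algebra k K], ConnectedSpace (PrimeSpectrum (K ⊗[k] B))) :
    ConnectedSpace (PrimeSpectrum (A ⊗[k] B)) := by
  let f := comap (algebraMap A (A ⊗[k] B))
  have hfib : ∀ p, IsConnected (f ⁻¹' {p}) := fun p => by
    obtain ⟨e⟩ := fibre_homeo (B := B) (k := k) p
    haveI := h p.asIdeal.ResidueField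
    haveI : ConnectedSpace (f ⁻¹' {p}) := e.symm.surjective.connectedSpace e.symm.continuous
    exact isConnected_iff_connectedSpace.2 inferInstance
  have hopen : IsOpenMap f := isOpenMap_comap_algebraMap_tensorProduct_of_field
  have := GeomConn.isConnected_preimage hopen hfib isConnected_univ
  rw [Set.preimage_univ] at this
  exact connectedSpace_iff_univ.2 this

end alg

section algClosed

variable {k : Type u} [Field k] [IsAlgClosed k] {A B : Type u} [CommRing A] [CommRing B] [Algebra k A]
  [Algebra k B]

theorem irreducible_tensor [IrreducibleSpace (PrimeSpectrum A)] [IrreducibleSpace (PrimeSpectrum B)] :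
    IrreducibleSpace (PrimeSpectrum (A ⊗[k] B)) := by
  refine irreducible_of_fibres fun K _ _ => ?_
  haveI : IrreducibleSpace (PrimeSpectrum (B ⊗[k] K)) := irreducible_of_fibres fun L _ _ => by
    haveI := GeomConn.isDomain_tensor (k := k) K L
    exact PrimeSpectrum.irreducibleSpace
  exact (homeomorphOfRingEquiv (Algebra.TensorProduct.comm k B K).toRingEquiv).surjective.irreducibleSpace (homeomorphOfRingEquiv (Algebra.TensorProduct.comm k B K).toRingEquiv).continuous

theorem connected_tensor [ConnectedSpace (PrimeSpectrum A)] [ConnectedSpace (PrimeSpectrum B)] :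
    ConnectedSpace (PrimeSpectrum (A ⊗[k] B)) := by
  refine connected_of_fibres fun K _ _ => ?_
  haveI : ConnectedSpace (PrimeSpectrum (B ⊗[k] K)) := connected_of_fibres fun L _ _ => by
    haveI := GeomConn.isDomain_tensor (k := k) K L
    haveI : IrreducibleSpace (PrimeSpectrum (L ⊗[k] K)) := PrimeSpectrum.irreducibleSpace
    infer_instance
  exact (homeomorphOfRingEquiv (Algebra.TensorProduct.comm k B K).toRingEquiv).surjective.connectedSpace
    (homeomorphOfRingEquiv (Algebra.TensorProduct.comm k B K).toRingEquiv).continuous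

end algClosed

section sepClosed

variable (k : Type u) [Field k] [IsSepClosed k]

theorem homeo_algClosure (C : Type u) [CommRing C] [Algebra k C] :
    Nonempty (PrimeSpectrum (AlgebraicClosure k ⊗[k] C) ≃ₜ PrimeSpectrum C) :=
  ⟨(homeomorphOfRingEquiv
      (Algebra.TensorProduct.comm k (AlgebraicClosure k) C).toRingEquiv).trans
    ((isHomeomorph_comap_of_isPurelyInseparable k (AlgebraicClosure k) C).homeomorph)⟩

variable {k} {R S : Type u} [CommRing R] [CommRing S] [Algebra k R] [Algebra k S]

theorem homeo_tensor :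
    Nonempty (PrimeSpectrum ((AlgebraicClosure k ⊗[k] R) ⊗[AlgebraicClosure k] (AlgebraicClosure k ⊗[k] S))
      ≃ₜ PrimeSpectrum (R ⊗[k] S)) := by
  obtain ⟨e⟩ := homeo_algClosure k (R ⊗[k] S)
  exact ⟨(homeomorphOfRingEquiv
    ((Algebra.TensorProduct.cancelBaseChange k (AlgebraicClosure k) (AlgebraicClosure k)
      (AlgebraicClosure k ⊗[k] R) S).trans
        (Algebra.TensorProduct.assoc k k (AlgebraicClosure k) (AlgebraicClosure k) R S)).toRingEquiv).trans e⟩

theorem irreducible_tensor_sepClosed [IrreducibleSpace (PrimeSpectrum R)]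
    [IrreducibleSpace (PrimeSpectrum S)] : IrreducibleSpace (PrimeSpectrum (R ⊗[k] S)) := by
  obtain ⟨eR⟩ := homeo_algClosure k R
  obtain ⟨eS⟩ := homeo_algClosure k S
  haveI := eR.symm.surjective.irreducibleSpace eR.symm.continuous
  haveI := eS.symm.surjective.irreducibleSpace eS.symm.continuous
  haveI := irreducible_tensor (k := AlgebraicClosure k) (A := AlgebraicClosure k ⊗[k] R)
    (B := AlgebraicClosure k ⊗[k] S)
  obtain ⟨e⟩ := homeo_tensor (k := k) (R := R) (S := S)
  exact e.surjective.irreducibleSpace e.continuous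

theorem connected_tensor_sepClosed [ConnectedSpace (PrimeSpectrum R)]
    [ConnectedSpace (PrimeSpectrum S)] : ConnectedSpace (PrimeSpectrum (R ⊗[k] S)) := by
  obtain ⟨eR⟩ := homeo_algClosure k R
  obtain ⟨eS⟩ := homeo_algClosure k S
  haveI := eR.symm.surjective.connectedSpace eR.symm.continuous
  haveI := eS.symm.surjective.connectedSpace eS.symm.continuous
  haveI := connected_tensor (k := AlgebraicClosure k) (A := AlgebraicClosure k ⊗[k] R)
    (B := AlgebraicClosure k ⊗[k] S)
  obtain ⟨e⟩ := homeo_tensor (k := k) (R := R) (S := S)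
  exact e.surjective.connectedSpace e.continuous

end sepClosed

end Groth.Agent.SepTensor
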